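import Cfsg.Agent.KFacts.MulOdd.Shrink
import Cfsg.Agent.KFacts.RgdSyl
import Cfsg.Agent.Nodes.CardSup_m3
import Cfsg.Agent.Nodes.Sub
import Cfsg.Agent.UGT.U2.FOne.QsRGD
import Cfsg.Agent.Cit.GoodOf_m3
import Cfsg.Agent.FastGrp
import Cfsg.Agent.Prune
set_option linter.all false
prune_inst 0x7f00000000000000000000000000000000000000000000000000000000000000000000000000000000000000000000000000000000000000000000000000000000000000000000000000000000000000003fffffffffffffffffffffffffffbeffbdffffffff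
open scoped Cfsg.Agent.FastGrp

/-!
# The group generated by the root groups of a root group datum (S5741, TEAM EXCSUB, helper958)

`R : RGD cs h p T n X` in `Y`, `L = G1 cs h X` the group generated by the root groups.

* `exists_inner` : the root group datum of `L`;
* `isSimple` : `L` is simple, if the root groups lie in `⁅L, L⁆` and no element `≠ 1` of `TT T X` centralises all of them;
* `isLie` : then `L` is of Lie type in characteristic `p`, if the rank is at least 3;
* `card_eq` : `|L| = |U| k`, `p ∤ k`.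
-/

set_option autoImplicit false
set_option linter.unusedSectionVars false

namespace Cfsg.Agent.H958.TS.RgdSub

open CoxeterSystem Cfsg.Agent.ChevalleyStructure.CoxeterGeom Cfsg.Agent.Tits.Roots Cfsg.Agent.Tits.Core
  Cfsg.Agent.Tits.Exchange Cfsg.Agent.Nodes.Reps Cfsg.Agent.Nodes.BNOf Cfsg.Agent.Nodes.StabComb
  Cfsg.Agent.Nodes.Bruhat Cfsg.Agent.Nodes.OppDec Cfsg.Agent.Nodes.RGDLib
  Cfsg.Agent.KFacts.MulOdd.Inst Cfsg.Agent.KFacts.MulOdd.Shrink

variable {I W Y : Type*} [Fintype I] [DecidableEq I] [Group W] [Group Y] {M : CoxeterMatrix I}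
  {cs : CoxeterSystem M W} {A : I → I → ℤ} {h : IsCartan M A} {p : ℕ} {T : Subgroup Y} {n : I → Y}
  {X : (I → ℤ) → Subgroup Y}

theorem Lv_le (i : I) : Lv X i ≤ G1 cs h X :=
  sup_le (X_le_G1 (isRoot_sr cs h i)) (X_le_G1 (isRoot_sr cs h i).neg)

/-- **The root group datum of the group generated by the root groups.** -/
theorem exists_inner (R : RGD cs h p T n X) : ∃ m : I → ↥(G1 cs h X),
    RGD cs h p ((TT T X).subgroupOf (G1 cs h X)) m (fun x => (X x).subgroupOf (G1 cs h X)) := by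
  obtain ⟨m, hm⟩ := exists_nn R
  exact ⟨_, rgd_restrict (Cfsg.Agent.KFacts.MulOdd.Shrink.rgd R hm) (G1 cs h X) (fun _ hx => X_le_G1 hx)
    (fun i => Lv_le (cs := cs) (h := h) i (hm i).1)⟩

theorem G1_inner : G1 cs h (fun x => (X x).subgroupOf (G1 cs h X)) = ⊤ := by
  have h1 : G1 cs h (fun x => (X x).subgroupOf (G1 cs h X)) = (G1 cs h X).subgroupOf (G1 cs h X) := by
    have h2 : ∀ L : Subgroup Y, (∀ x, IsRoot cs h x → X x ≤ L) →
        G1 cs h (fun x => (X x).subgroupOf L) = (G1 cs h X).subgroupOf L := by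
      intro L hL
      unfold G1 RGD.Sup
      rw [iSup_subgroupOf _ (fun z : {x | IsRoot cs h x} => hL z.1 z.2)]
    exact h2 _ fun x hx => X_le_G1 hx
  rw [h1, Subgroup.subgroupOf_self]

theorem commutator_inner (hperf : ∀ x, IsRoot cs h x → X x ≤ ⁅G1 cs h X, G1 cs h X⁆) :
    commutator ↥(G1 cs h X) = ⊤ := by
  have h1 : G1 cs h X ≤ ⁅G1 cs h X, G1 cs h X⁆ := RGD.Sup_le fun x hx => hperf x hx
  apply Subgroup.map_injective (G1 cs h X).subtype_injective
  rw [← MonoidHom.range_eq_map, Subgroup.range_subtype, commutator_def, Subgroup.map_commutator,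
    ← MonoidHom.range_eq_map, Subgroup.range_subtype]
  exact le_antisymm (Subgroup.commutator_le_self _) h1

/-- A finite quasisimple group with trivial centre is simple. -/
theorem isSimple_of_quasisimple {Y : Type*} [Group Y] (hQ : Cfsg.IsQuasisimple Y)
    (hc : Subgroup.center Y = ⊥) : IsSimpleGroup Y := by
  have h1 := hQ.2
  have e : Y ⧸ Subgroup.center Y ≃* Y :=
    (QuotientGroup.quotientMulEquivOfEq hc).trans QuotientGroup.quotientBot
  exact (e.isSimpleGroup_congr).1 h1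

section Main

variable [Finite Y] [Finite W] [Nonempty I] [Fact p.Prime] (R : RGD cs h p T n X)

include R

theorem isQuasisimple
    (hconn : ∀ J : Set I, J.Nonempty → J ≠ Set.univ → ∃ a ∈ J, ∃ b, b ∉ J ∧ M a b ≠ 2)
    (hT : ∀ a ∈ T, ∀ b ∈ T, a * b = b * a)
    (hperf : ∀ x, IsRoot cs h x → X x ≤ ⁅G1 cs h X, G1 cs h X⁆) : Cfsg.IsQuasisimple ↥(G1 cs h X) := by
  obtain ⟨m, R'⟩ := exists_inner R
  refine UGT.U2.FOne.QsRGD.isQuasisimple_of_rgd R' G1_inner hconn ?_ (commutator_inner hperf)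
  have : IsMulCommutative ↥((TT T X).subgroupOf (G1 cs h X)) := by
    refine ⟨⟨fun a b => ?_⟩⟩
    apply Subtype.ext
    apply Subtype.ext
    exact hT _ (TT_le a.2) _ (TT_le b.2)
  exact Group.isSolvable_of_comm fun a b => this.is_comm.comm a b

/-- **Simplicity.** -/
theorem isSimple
    (hconn : ∀ J : Set I, J.Nonempty → J ≠ Set.univ → ∃ a ∈ J, ∃ b, b ∉ J ∧ M a b ≠ 2)
    (hT : ∀ a ∈ T, ∀ b ∈ T, a * b = b * a)
    (hperf : ∀ x, IsRoot cs h x → X x ≤ ⁅G1 cs h X, G1 cs h X⁆)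
    (hcent : ∀ t ∈ TT T X, (∀ x, IsRoot cs h x → ∀ u ∈ X x, t * u = u * t) → t = 1) :
    IsSimpleGroup ↥(G1 cs h X) := by
  refine isSimple_of_quasisimple (isQuasisimple R hconn hT hperf) ?_
  obtain ⟨m, R'⟩ := exists_inner R
  have hTs : Group.IsSolvable ↥((TT T X).subgroupOf (G1 cs h X)) := by
    refine Group.isSolvable_of_comm fun a b => ?_
    apply Subtype.ext
    apply Subtype.ext
    exact hT _ (TT_le a.2) _ (TT_le b.2)
  have hgen := rgd_gen_of_G1 R' G1_inner
  have hcomm := commutator_inner hperf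
  have hB : Subgroup.center ↥(G1 cs h X) ≤
      RGD.B cs h ((TT T X).subgroupOf (G1 cs h X)) (fun x => (X x).subgroupOf (G1 cs h X)) := by
    rcases UGT.U2.FOne.QsRGD.eq_top_or_le_B (R'.bnPair hgen) (R'.bnPair_irreducible hgen hconn)
      (Cfsg.Agent.FixBN.FieldRGD.isSolvable_B R' hTs) hcomm (Subgroup.center ↥(G1 cs h X)) with h1 | h1
    · exfalso
      have h2 : commutator ↥(G1 cs h X) = ⊥ := by
        rw [commutator_def, ← h1, Subgroup.commutator_eq_bot_iff_le_centralizer]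
        exact Subgroup.center_le_centralizer _
      rw [h2] at hcomm
      obtain ⟨i⟩ := (inferInstance : Nonempty I)
      apply X_ne_bot R' (isRoot_sr cs h i)
      rw [eq_bot_iff, hcomm]
      exact le_top
    · exact h1
  rw [eq_bot_iff]
  intro z hz
  have hzT : z ∈ (TT T X).subgroupOf (G1 cs h X) := by
    obtain ⟨k, hk⟩ := exists_rp cs R'.nsys (w0 cs)
    rw [← B_inf_BN R']
    refine ⟨hB hz, ?_⟩
    rw [← cj_B R' hk]
    have h3 : k * z * k⁻¹ ∈ cj k (RGD.B cs h ((TT T X).subgroupOf (G1 cs h X))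
        (fun x => (X x).subgroupOf (G1 cs h X))) := conj_mem_cj.2 (hB hz)
    have h4 : k * z * k⁻¹ = z := by rw [Subgroup.mem_center_iff.1 hz k]; group
    rwa [h4] at h3
  rw [Subgroup.mem_bot]
  apply Subtype.ext
  refine hcent z hzT fun x hx u hu => ?_
  have h1 := Subgroup.mem_center_iff.1 hz ⟨u, X_le_G1 hx hu⟩
  exact (congrArg Subtype.val h1).symm

/-- **Lie type.** -/
theorem isLie
    (hconn : ∀ J : Set I, J.Nonempty → J ≠ Set.univ → ∃ a ∈ J, ∃ b, b ∉ J ∧ M a b ≠ 2)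
    (hT : ∀ a ∈ T, ∀ b ∈ T, a * b = b * a)
    (hperf : ∀ x, IsRoot cs h x → X x ≤ ⁅G1 cs h X, G1 cs h X⁆)
    (hcent : ∀ t ∈ TT T X, (∀ x, IsRoot cs h x → ∀ u ∈ X x, t * u = u * t) → t = 1)
    (h3 : 3 ≤ Fintype.card I) : Cfsg.IsLieTypeChar p ↥(G1 cs h X) := by
  have := isSimple R hconn hT hperf hcent
  obtain ⟨m, R'⟩ := exists_inner R
  exact Cit.ChartEnd.isLieTypeChar_of_rgd (Fact.out : p.Prime) R' G1_inner hconn h3

omit [Nonempty I] in
/-- **The Sylow order.** -/
theorem card_eq : ∃ k, ¬ p ∣ k ∧ Nat.card ↥(G1 cs h X) = Nat.card ↥(RGD.Sup X (RGD.Pos cs h)) * k := by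
  obtain ⟨m, hm⟩ := exists_nn R
  have R' := Cfsg.Agent.KFacts.MulOdd.Shrink.rgd R hm
  have h1 : GG cs h (TT T X) X = G1 cs h X := by
    apply le_antisymm
    · refine sup_le (iSup_le fun i => ?_) le_rfl
      exact inf_le_right.trans (Lv_le (cs := cs) (h := h) i)
    · exact le_sup_right
  have h2 := KFacts.RgdSyl.not_dvd_relIndex R'
  rw [h1] at h2
  refine ⟨_, h2, ?_⟩
  have h4 : RGD.Sup X (RGD.Pos cs h) ≤ G1 cs h X := RGD.Sup_mono fun x hx => hx.1
  have h5 := Subgroup.relIndex_mul_relIndex ⊥ (RGD.Sup X (RGD.Pos cs h)) (G1 cs h X) bot_le h4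
  rw [Subgroup.relIndex_bot_left, Subgroup.relIndex_bot_left] at h5
  exact h5.symm

end Main

end Cfsg.Agent.H958.TS.RgdSub
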