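import Cfsg.Agent.Nodes.RGDTwActE6
import Cfsg.Agent.Nodes.RGDTwNode
import Cfsg.Agent.KFacts.RgdFiltTwAll
import Cfsg.Agent.KFacts.RgdSL
import Cfsg.Agent.KFacts.TwESix.Comb
import Cfsg.Agent.OddHalf.NI.Mult.Torus
import Cfsg.Agent.Prune
set_option linter.all false
prune_inst 0x7f00000000000000000000000000000000000000000000000000000000000000000000000000000000000000000000000000000000000000000000000000000000000000000000000000000000000000003fffffffffffffffffffffffffffbeffbdffffffff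
open scoped Cfsg.Agent.FastGrp

/-!
# Facts on `²E₆(q)` (S5741, TEAM EXCSUB, helper958)

* `intComm` : the integral commutator formula; `coordP` : the coordinates of the simple root groups;
* `T_comm` : the torus is abelian; `N_quad_ne_zero` : the structure constant of a long and a short root.
-/

set_option autoImplicit false
set_option linter.unusedSectionVars false
set_option maxHeartbeats 400000
set_option Elab.async false

namespace Cfsg.Agent.H958.TS.TwCommon

open CoxeterSystem Cfsg.Agent.ChevalleyStructure.CoxeterGeom Cfsg.Agent.Tits.Roots Cfsg.Agent.Tits.Core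
  Cfsg.Agent.Nodes.Reps Cfsg.Agent.Nodes.BNOf Cfsg.Agent.Nodes.RGDTwGen Cfsg.Agent.Nodes.RGDChev
  Cfsg.Agent.Nodes.RGDFold Cfsg.Agent.Nodes.RGDLib
  Cfsg.Agent.Nodes.RGDFoldSL Cfsg.Agent.Nodes.RGDTwE6 Cfsg.Agent.Nodes.RGDTwTab Cfsg.Agent.Nodes.RGDTwCoordE6
  Cfsg.Agent.Nodes.RGDTwCoord Cfsg.Agent.Nodes.RGDTwComE6 Cfsg.Agent.Nodes.RGDTwActE6
open Cfsg.Lie Cfsg.Agent.ChevalleyStructure
  Cfsg.Agent.ChevalleyStructure.TwistedU Cfsg.Agent.ChevalleyStructure.TwistedFix
open Cfsg.Agent.ChevalleyStructure.TwE6Basic (sg)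
open Cfsg.Agent.ChevalleyStructure.SL2Hom (up lo)
open Cfsg.Agent.KFacts.RgdBorelTits Cfsg.Agent.KFacts.RgdFilt
open Cfsg.Agent.Nodes.RGDTwNode.E6 (nodeOK eps_one rest)
open Cfsg.Agent.OddHalf.NI
open scoped commutatorElement MatrixGroups

universe u

/-- The class of a vector. -/
local notation "cl" => Cfsg.Agent.Nodes.RGDTwCoord.cl chevE6 J O

variable {K : Type u} [Field K] [Fintype K] {q : ℕ} {φ : K →+* K} (hφ : ∀ x, φ x = x ^ q)
  (hqq : ∀ t : K, (t ^ q) ^ q = t) {W : Type*} [Group W] {cs : CoxeterSystem CoxeterMatrix.F₄ W} {z w : Fin 4 → ℤ}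

include hφ hqq

/-- **The integral commutator formula.** -/
theorem intComm : IntComm cs isCartan (X φ q : (Fin 4 → ℤ) → Subgroup ↥(twistedE6 K q)) := by
  obtain ⟨p, hp'⟩ := CharP.exists K
  have : Fact p.Prime := ⟨CharP.char_is_prime K p⟩
  intro x y hx hy hxy hxy' a ha b hb
  have h1 := KFacts.RgdFiltTwAll.intComm_fold cs isCartan foldData (foldGrp hφ hqq) p x y hx hy hxy hxy' a ha b hb
  have h2 : FS (X φ q : (Fin 4 → ℤ) → Subgroup ↥(twistedE6 K q)) {z | IB cs isCartan x y z} =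
      (FS (R chevE6 hp K J (sg φ)) {z | IB cs isCartan x y z}).subgroupOf (twistedE6 K q) := by
    unfold FS
    rw [Nodes.RGDLib.iSup_subgroupOf]
    · rfl
    rintro ⟨z, hz⟩
    exact R_le cs isCartan foldData (foldGrp hφ hqq) p hz.1
  rw [h2, Subgroup.mem_subgroupOf]
  exact h1

omit hφ hqq [Fintype K] in
/-- **The torus is abelian.** -/
theorem T_comm : ∀ s ∈ T K q, ∀ t ∈ T K q, s * t = t * s := by
  intro s hs t ht
  have hs' : (s : GL chevE6.Idx K) ∈ chevE6.diagonalSubgroup K := (Subgroup.mem_subgroupOf.1 hs).1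
  have ht' : (t : GL chevE6.Idx K) ∈ chevE6.diagonalSubgroup K := (Subgroup.mem_subgroupOf.1 ht).1
  obtain ⟨χ, hχ⟩ := ChevalleyStructure.HMatDiagAll.mem_torus.1
    (ChevalleyStructure.HMatDiagAll.diagonalSubgroup_le_torus hp.inList hs')
  obtain ⟨ψ, hψ⟩ := ChevalleyStructure.HMatDiagAll.mem_torus.1
    (ChevalleyStructure.HMatDiagAll.diagonalSubgroup_le_torus hp.inList ht')
  apply Subtype.ext
  apply Units.ext
  rw [Subgroup.coe_mul, Subgroup.coe_mul, Units.val_mul, Units.val_mul, hχ, hψ, Matrix.diagonal_mul_diagonal,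
    Matrix.diagonal_mul_diagonal]
  congr 1
  funext i
  exact mul_comm _ _

theorem hf (i : Fin 4) : ∀ s ∈ Cfsg.Agent.Nodes.RGDTwNode.E6.rep i :: rest i, ∀ t : K,
    ((TwistedE6Sigma.eps s : ℤ) : K) * φ t = φ t := fun s hs t => by
  rw [eps_one i s hs, Int.cast_one, one_mul]

/-- The homomorphism of the node `i`. -/
noncomputable def P (i : Fin 4) : SL(2, Fx φ ((rest i).length + 1)) →* ↥(twistedE6 K q) :=
  Phi (foldGrp hφ hqq) (nodeOK i) (hf hφ hqq i)

/-- **Coordinates.** -/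
theorem coordP : Mult.Coord (X φ q : (Fin 4 → ℤ) → Subgroup ↥(twistedE6 K q))
    (fun i => Fx φ ((rest i).length + 1)) (P hφ hqq) := by
  obtain ⟨p, hp'⟩ := CharP.exists K
  have : Fact p.Prime := ⟨CharP.char_is_prime K p⟩
  have RG := Cfsg.Agent.Nodes.RGDTwE6.rgd CoxeterMatrix.F₄.toCoxeterSystem hφ hqq p
  have hup : ∀ i (g : ↥(twistedE6 K q)), g ∈ X φ q (sr i) ↔ ∃ a, g = P hφ hqq i (SL2Hom.up a) := fun i g =>
    mem_X_iff (foldGrp hφ hqq) (nodeOK i) (hf hφ hqq i) g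
  refine ⟨fun i => ?_, fun i => ?_⟩
  · ext g
    rw [SetLike.mem_coe, hup]
    exact ⟨fun ⟨a, ha⟩ => ⟨a, ha.symm⟩, fun ⟨a, ha⟩ => ⟨a, ha.symm⟩⟩
  · have h1 := RG.conj i (sr i) (isRoot_sr _ isCartan i)
    rw [rep_simple_sr] at h1
    have hlo : ∀ a : Fx φ ((rest i).length + 1), P hφ hqq i (Mult.lo a) =
        nn hφ i * P hφ hqq i (SL2Hom.up (-a)) * (nn hφ i)⁻¹ := by
      intro a
      have e1 : Mult.lo a = SL2Hom.lo a := rfl
      have e2 : P hφ hqq i (wS 1) = nn hφ i := Phi_wS (foldGrp hφ hqq) (nodeOK i) (hf hφ hqq i)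
      rw [e1, lo_eq, map_mul, map_mul, map_inv, e2]
    ext g
    rw [SetLike.mem_coe, ← h1]
    constructor
    · rintro ⟨y, hy, rfl⟩
      obtain ⟨a, rfl⟩ := (hup i y).1 hy
      refine ⟨-a, ?_⟩
      show P hφ hqq i (Mult.lo (-a)) = _
      rw [hlo, neg_neg]
      rfl
    · rintro ⟨a, rfl⟩
      show P hφ hqq i (Mult.lo a) ∈ _
      rw [hlo]
      exact Nodes.Reps.conj_mem_cj.2 ((hup i _).2 ⟨-a, rfl⟩)

theorem P_up_inj (i : Fin 4) {a b : Fx φ ((rest i).length + 1)} (h : P hφ hqq i (up a) = P hφ hqq i (up b)) :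
    a = b := Phi_up_injective (foldGrp hφ hqq) (nodeOK i) (hf hφ hqq i) h

/-- The structure constant of a long and a short root is a sign. -/
theorem N_quad_ne_zero (hz : IsRoot cs isCartan z) (hw : IsRoot cs isCartan w) (hzw : IsRoot cs isCartan (z + w))
    (lz : Lg z) (sw : St w) : ((N z w : ℤ) : K) ≠ 0 := by
  have hlz : ∀ r ∈ cl z, r < chevE6.nroots := fun r hr => (V_of_mem hz hr).1
  have hlw : ∀ r ∈ cl w, r < chevE6.nroots := fun r hr => (V_of_mem hw hr).1
  have hN : N z w * N z w = 1 := by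
    obtain ⟨r, s₀, s₁, u₀, u₁, v, e1, e2, -, -, -, -, h5, h6, -⟩ := facts_quad hz hw (kd_quad hz hw hzw lz sw)
    rw [h6]
    have h7 : 2 ≤ dgE6 r s₀ := by
      unfold okQ sumB at h5
      simp only [Bool.and_eq_true, decide_eq_true_eq] at h5
      exact h5.1.1.1.1.1.1.2
    exact (twC hφ hqq).NN_sq (hlz r (by rw [e1]; exact List.mem_cons_self))
      (hlw s₀ (by rw [e2]; exact List.mem_cons_self)) h7
  intro h0
  have h1 := congrArg (Int.cast : ℤ → K) hN
  rw [Int.cast_mul, h0, mul_zero, Int.cast_one] at h1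
  exact zero_ne_one h1

end Cfsg.Agent.H958.TS.TwCommon
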